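import Mathlib
import Cfsg.Agent.H32.NX9.AglB
import Cfsg.Agent.H322.NX.Perm
import Cfsg.Agent.H37.NX.NoInv

/-!
# S4979, layer (I): the degree 8 case, a good prime is impossible (helper32)
-/

set_option autoImplicit false
set_option linter.unusedSectionVars false
set_option linter.style.haveILetI false

open Cfsg
open scoped commutatorElement Pointwise

namespace Cfsg.Agent.H32.NX9

section part6

section final
variable {H B : Type*} [Group H] [Finite H] [MulAction H B] [Finite B] {K Q : Subgroup H}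
  {X : Type*} [CommGroup X] (α : H →* MulAut X) (D : Subgroup X)

theorem sq_inj [Finite D] (hodd : ¬ 2 ∣ Nat.card D) {x : X} (hx : x ∈ D) (h : x * x = 1) : x = 1 := by
  have h1 : (⟨x, hx⟩ : D) ^ 2 = 1 := Subtype.ext (by rw [pow_two]; exact h)
  have h2 : orderOf (⟨x, hx⟩ : D) ∣ 2 := orderOf_dvd_of_pow_eq_one h1
  have h3 : orderOf (⟨x, hx⟩ : D) ∣ Nat.card D := orderOf_dvd_natCard _
  rcases (Nat.dvd_prime Nat.prime_two).1 h2 with h4 | h4
  · exact congrArg Subtype.val (orderOf_eq_one_iff.1 h4)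
  · rw [h4] at h3
    exact absurd h3 hodd

/-- averaging -/
theorem exists_fixed [Finite D] (hodd : ¬ 2 ∣ Nat.card D) (hD : ∀ h, ∀ x ∈ D, α h x ∈ D)
    (hsq : ∀ k ∈ K, ∀ x, α k (α k x) = x) (hcm : ∀ k ∈ K, ∀ l ∈ K, ∀ x, α k (α l x) = α l (α k x))
    (ψ₁ : X) (hψ₁ : ∀ h, α h ψ₁ * ψ₁⁻¹ ∈ D) : ∃ ψ, ψ * ψ₁⁻¹ ∈ D ∧ ∀ k ∈ K, α k ψ = ψ := by
  classical
  have key : ∀ l : List H, (∀ k ∈ l, k ∈ K) → ∃ ψ, ψ * ψ₁⁻¹ ∈ D ∧ ∀ k ∈ l, α k ψ = ψ := by
    intro l
    induction l with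
    | nil => exact fun _ => ⟨ψ₁, by rw [mul_inv_cancel]; exact one_mem _, fun k hk => absurd hk (by simp)⟩
    | cons s l ih =>
      intro hl
      obtain ⟨ψ, h1, h2⟩ := ih (fun k hk => hl k (List.mem_cons_of_mem _ hk))
      have hs : s ∈ K := hl s List.mem_cons_self
      set δ := α s ψ * ψ⁻¹ with hδ
      have hδD : δ ∈ D := by
        have h3 := hD s _ h1
        have h4 := hψ₁ s
        have h5 : δ = α s (ψ * ψ₁⁻¹) * (α s ψ₁ * ψ₁⁻¹) * (ψ * ψ₁⁻¹)⁻¹ := by
          rw [hδ, map_mul, map_inv]; group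
        rw [h5]
        exact mul_mem (mul_mem h3 h4) (inv_mem h1)
      have hδs : α s δ = δ⁻¹ := by
        rw [hδ, map_mul, map_inv, hsq s hs, mul_inv, inv_inv, mul_comm]
      have hδk : ∀ k ∈ l, α k δ = δ := by
        intro k hk
        rw [hδ, map_mul, map_inv, hcm k (hl k (List.mem_cons_of_mem _ hk)) s hs, h2 k hk]
      -- `2 m = 1` modulo the order of `D`
      obtain ⟨m, hm⟩ : ∃ m, Nat.card D + 1 = 2 * m := by
        have : Nat.card D % 2 = 1 := by omega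
        exact ⟨(Nat.card D + 1) / 2, by omega⟩
      have hδm : δ ^ (2 * m) = δ := by
        rw [← hm, pow_succ]
        have h3 : (⟨δ, hδD⟩ : D) ^ Nat.card D = 1 := pow_card_eq_one'
        have h4 : δ ^ Nat.card D = 1 := congrArg Subtype.val h3
        rw [h4, one_mul]
      refine ⟨ψ * δ ^ m, ?_, ?_⟩
      · have h3 : ψ * δ ^ m * ψ₁⁻¹ = ψ * ψ₁⁻¹ * δ ^ m := by
          rw [mul_assoc, mul_comm (δ ^ m), ← mul_assoc]
        rw [h3]
        exact mul_mem h1 (pow_mem hδD m)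
      · intro k hk
        rcases List.mem_cons.1 hk with rfl | hk
        · have h3 : α k ψ = ψ * δ := by rw [hδ, mul_comm ψ, inv_mul_cancel_right]
          rw [map_mul, map_pow, hδs, h3, inv_pow, mul_assoc]
          congr 1
          rw [mul_inv_eq_iff_eq_mul, ← pow_add, ← two_mul, hδm]
        · rw [map_mul, map_pow, hδk k hk, h2 k hk]
  haveI : Fintype H := Fintype.ofFinite H
  obtain ⟨ψ, h1, h2⟩ := key ((Finset.univ.filter (· ∈ K)).toList) (by simp)
  exact ⟨ψ, h1, fun k hk => h2 k (by simpa using hk)⟩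

/-- one step: `g` maps `λ` to `λ` or `λ'` -/
theorem swap_step [Finite D] (hodd : ¬ 2 ∣ Nat.card D) (hD : ∀ h, ∀ x ∈ D, α h x ∈ D) (nK : K.Normal)
    {ψ l m : X} (hl : l ∈ D) (hm : m ∈ D) (hl1 : l ≠ 1) (hm1 : m ≠ 1)
    (hle : ∀ k ∈ K, α k l = l ∨ α k l = l⁻¹) (hme : ∀ k ∈ K, α k m = m ∨ α k m = m⁻¹)
    (hψ : ∀ k ∈ K, α k ψ = ψ) {k₁ : H} (hk₁ : k₁ ∈ K) (hk₁l : α k₁ l = l⁻¹) (hk₁m : α k₁ m = m) {g : H}
    (hg : α g (ψ * l * m) = ψ * l * m) : α g l = l ∨ α g l = m := by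
  have sq : ∀ x ∈ D, x * x = 1 → x = 1 := fun x hx h => sq_inj D hodd hx h
  set k' := g * k₁ * g⁻¹ with hk'
  have hk'K : k' ∈ K := nK.conj_mem _ hk₁ g
  -- `α g (l⁻²)`
  have e1 : α k₁ (ψ * l * m) = (ψ * l * m) * (l * l)⁻¹ := by
    rw [map_mul, map_mul, hψ _ hk₁, hk₁l, hk₁m, mul_inv]
    rw [mul_right_comm ψ l m, mul_right_comm ψ l⁻¹ m, mul_assoc (ψ * m) l, mul_inv_cancel_left]
  have e2 : α k' (ψ * l * m) = (ψ * l * m) * (α g (l * l))⁻¹ := by
    have h1 : α k' (α g (ψ * l * m)) = α g (α k₁ (ψ * l * m)) := by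
      rw [← MulAut.mul_apply, ← MulAut.mul_apply, ← map_mul, ← map_mul, hk', inv_mul_cancel_right]
    rw [hg] at h1
    rw [h1, e1, map_mul, hg, map_inv]
  have hgl : α g l ∈ D := hD g l hl
  -- `α g l` is an eigenvector
  have hgle : ∀ k ∈ K, α k (α g l) = α g l ∨ α k (α g l) = (α g l)⁻¹ := by
    intro k hk
    have h1 : α k (α g l) = α g (α (g⁻¹ * k * g) l) := by
      rw [← MulAut.mul_apply, ← MulAut.mul_apply, ← map_mul, ← map_mul]
      congr 2
      group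
    have h2 : g⁻¹ * k * g ∈ K := by
      have := nK.conj_mem _ hk g⁻¹
      rwa [inv_inv] at this
    rw [h1]
    rcases hle _ h2 with h3 | h3
    · left; rw [h3]
    · right; rw [h3, map_inv]
  have e3 : α k' (ψ * l * m) = ψ * α k' l * α k' m := by
    rw [map_mul, map_mul, hψ _ hk'K]
  have hne : α g l ≠ 1 := by
    intro h
    exact hl1 ((α g).injective (by rw [h, map_one]))
  have sqeq : ∀ x ∈ D, ∀ y ∈ D, x * x = y * y → x = y := by
    intro x hx y hy h
    have h1 : (x * y⁻¹) * (x * y⁻¹) = 1 := by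
      rw [mul_mul_mul_comm, h, ← mul_inv, mul_inv_cancel]
    have h2 := sq _ (mul_mem hx (inv_mem hy)) h1
    exact mul_inv_eq_one.1 h2
  rw [e3] at e2
  rcases hle k' hk'K with h1 | h1 <;> rcases hme k' hk'K with h2 | h2
  · exfalso
    rw [h1, h2, left_eq_mul, inv_eq_one, map_mul] at e2
    exact hne (sq _ hgl e2)
  · right
    rw [h1, h2, map_mul] at e2
    have h3 : (α g l * α g l) = m * m := by
      have h4 : ψ * l * m⁻¹ = ψ * l * m * (m * m)⁻¹ := by
        rw [mul_inv, mul_assoc (ψ * l) m, mul_inv_cancel_left]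
      rw [h4] at e2
      exact (inv_injective (mul_left_cancel e2)).symm
    exact sqeq _ hgl _ hm h3
  · left
    rw [h1, h2, map_mul] at e2
    have h3 : (α g l * α g l) = l * l := by
      have h4 : ψ * l⁻¹ * m = ψ * l * m * (l * l)⁻¹ := by
        rw [mul_inv, mul_right_comm ψ l m, mul_right_comm ψ l⁻¹ m, mul_assoc (ψ * m) l, mul_inv_cancel_left]
      rw [h4] at e2
      exact (inv_injective (mul_left_cancel e2)).symm
    exact sqeq _ hgl _ hl h3
  · exfalso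
    rw [h1, h2, map_mul] at e2
    have h3 : (α g l * α g l) = (l * m) * (l * m) := by
      have h4 : ψ * l⁻¹ * m⁻¹ = ψ * l * m * ((l * m) * (l * m))⁻¹ := by
        rw [mul_inv, mul_assoc ψ l m, mul_assoc ψ _ ((l * m)⁻¹ * (l * m)⁻¹), mul_inv_cancel_left, mul_inv,
          mul_assoc]
      rw [h4] at e2
      exact (inv_injective (mul_left_cancel e2)).symm
    have h4 := sqeq _ hgl _ (mul_mem hl hm) h3
    have h5 : α k₁ (l * m) = l⁻¹ * m := by rw [map_mul, hk₁l, hk₁m]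
    rcases hgle k₁ hk₁ with h6 | h6
    · rw [h4, h5] at h6
      have h7 := mul_right_cancel h6
      exact hl1 (sq l hl (by nth_rewrite 1 [← h7]; exact inv_mul_cancel l))
    · rw [h4, h5, mul_inv] at h6
      have h7 := mul_left_cancel h6
      exact hm1 (sq m hm (by nth_rewrite 1 [h7]; exact inv_mul_cancel m))

/-- the final contradiction -/
theorem Agl.final (A : Agl B K Q) [Finite D] (hodd : ¬ 2 ∣ Nat.card D) (hD : ∀ h, ∀ x ∈ D, α h x ∈ D)
    (hQ : ∀ k ∈ Q, ∀ x, α k x = x) (ψ₁ : X) (hψ₁ : ∀ h, α h ψ₁ * ψ₁⁻¹ ∈ D)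
    (hK : ∃ k ∈ K, ∃ x ∈ D, α k x ≠ x)
    (hfix : ∀ ψ, ψ * ψ₁⁻¹ ∈ D → ∃ g : H, g ∉ K ∧ ¬ 2 ∣ orderOf g ∧ α g ψ = ψ)
    (maxK : ∀ M : Subgroup H, M.Normal → M ≠ ⊤ → M ≤ K) : False := by
  classical
  haveI := A.nQ
  have mulα : ∀ (g h : H) (x : X), α (g * h) x = α g (α h x) := by
    intro g h x
    rw [map_mul, MulAut.mul_apply]
  have hsq : ∀ k ∈ K, ∀ x, α k (α k x) = x := by
    intro k hk x
    rw [← mulα]
    exact hQ _ (A.sq k hk) x
  have hcm : ∀ k ∈ K, ∀ l ∈ K, ∀ x, α k (α l x) = α l (α k x) := by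
    intro k hk l hl x
    have h3 : (l * k)⁻¹ * (k * l) ∈ Q := by
      have := A.cm k⁻¹ (inv_mem hk) l⁻¹ (inv_mem hl)
      rw [commutatorElement_def, inv_inv, inv_inv] at this
      rw [mul_inv_rev, ← mul_assoc]
      exact this
    have h4 := hQ _ h3 x
    rw [← mulα, ← mulα]
    have h5 : k * l = (l * k) * ((l * k)⁻¹ * (k * l)) := by group
    rw [h5, mulα (l * k), h4]
  obtain ⟨ψ, hψD, hψK⟩ := exists_fixed α D hodd hD hsq hcm ψ₁ hψ₁
  -- an eigenvector
  have hex : ∃ l ∈ D, (∀ k ∈ K, α k l = l ∨ α k l = l⁻¹) ∧ ∃ k ∈ K, α k l ≠ l := by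
    by_contra hcon
    push Not at hcon
    obtain ⟨k, hk, x, hx, hne⟩ := hK
    apply hne
    let β : K →* MulAut D :=
      { toFun := fun k =>
          { toFun := fun x => ⟨α k x, hD k x x.2⟩
            invFun := fun x => ⟨α (k : H) x, hD k x x.2⟩
            left_inv := fun x => Subtype.ext (hsq k k.2 x)
            right_inv := fun x => Subtype.ext (hsq k k.2 x)
            map_mul' := fun x y => Subtype.ext (map_mul (α (k : H)) (x : X) y) }
        map_one' := by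
          ext x
          change α ((1 : K) : H) (x : X) = x
          rw [OneMemClass.coe_one, map_one, MulAut.one_apply]
        map_mul' := by
          intro a b
          ext x
          exact mulα a b x }
    have hβ : ∀ (k : K) (x : D), ((β k x : D) : X) = α k x := fun _ _ => rfl
    have h1 := closure_eig hodd β (fun g x => Subtype.ext (hsq g g.2 x))
      (fun g h x => Subtype.ext (hcm g g.2 h h.2 x))
    have h2 : (⊤ : Subgroup D) ≤ (β ⟨k, hk⟩).toMonoidHom.eqLocus (MonoidHom.id D) := by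
      rw [← h1, Subgroup.closure_le]
      intro y hy
      apply Subtype.ext
      refine hcon y y.2 (fun k hk => ?_) k hk
      rcases hy ⟨k, hk⟩ with h3 | h3
      · left; exact congrArg Subtype.val h3
      · right; exact congrArg Subtype.val h3
    have h3 : β ⟨k, hk⟩ ⟨x, hx⟩ = ⟨x, hx⟩ := h2 (Subgroup.mem_top _)
    exact congrArg Subtype.val h3
  obtain ⟨l, hlD, hle, k₀, hk₀, hk₀l⟩ := hex
  have hl1 : l ≠ 1 := by
    rintro rfl
    exact hk₀l (map_one _)
  have sq : ∀ x ∈ D, x * x = 1 → x = 1 := fun x hx h => sq_inj D hodd hx h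
  have hinv : ∀ x ∈ D, x ≠ 1 → x⁻¹ ≠ x := by
    intro x hx hx1 h
    exact hx1 (sq x hx (by nth_rewrite 1 [← h]; exact inv_mul_cancel x))
  -- the stabilisers in `K`
  let U : X → Subgroup H := fun x =>
    { carrier := {k | k ∈ K ∧ α k x = x}
      one_mem' := ⟨one_mem _, by rw [map_one, MulAut.one_apply]⟩
      mul_mem' := by
        rintro a b ⟨ha, ha'⟩ ⟨hb, hb'⟩
        exact ⟨mul_mem ha hb, by rw [mulα, hb', ha']⟩
      inv_mem' := by
        rintro a ⟨ha, ha'⟩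
        refine ⟨inv_mem ha, ?_⟩
        rw [map_inv, MulAut.inv_apply, MulEquiv.symm_apply_eq, ha'] }
  have hUmem : ∀ x k, k ∈ U x ↔ k ∈ K ∧ α k x = x := fun _ _ => Iff.rfl
  have hQU : ∀ x, Q ≤ U x := fun x k hk => ⟨A.QK hk, hQ k hk x⟩
  -- `U l` is not normal
  have hUn : ∃ h : H, ∃ u ∈ U l, h * u * h⁻¹ ∉ U l := by
    by_contra hcon
    push Not at hcon
    have hUN : (U l).Normal := ⟨fun u hu h => hcon h u hu⟩
    obtain ⟨b⟩ := A.nonempty
    obtain ⟨u, hu, hub⟩ : ∃ u ∈ U l, u • b ≠ b := by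
      obtain ⟨x, hx, hx1⟩ := A.pick b {b} (by rw [Finset.card_singleton]; norm_num)
      obtain ⟨y, hy, hy1⟩ := A.pick b {b, x • b} ((Finset.card_le_two).trans (by norm_num))
      simp only [Finset.mem_insert, Finset.mem_singleton, not_or] at hx1 hy1
      rcases hle x hx with h1 | h1
      · exact ⟨x, ⟨hx, h1⟩, hx1⟩
      rcases hle y hy with h2 | h2
      · exact ⟨y, ⟨hy, h2⟩, hy1.1⟩
      refine ⟨x⁻¹ * y, ⟨mul_mem (inv_mem hx) hy, ?_⟩, ?_⟩
      · have h4 : α x⁻¹ l = l⁻¹ := by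
          apply (α x).injective
          rw [← mulα, mul_inv_cancel, map_one, MulAut.one_apply, map_inv, h1, inv_inv]
        rw [mulα, h2, map_inv, h4, inv_inv]
      · intro h3
        rw [mul_smul, inv_smul_eq_iff] at h3
        exact hy1.2 h3
    obtain ⟨v, hv, hvb⟩ := normal_trans A.card A.t3 (U l) hUN hu hub b (k₀ • b)
    have h1 : v⁻¹ * k₀ ∈ Q := by
      refine A.reg _ (mul_mem (inv_mem hv.1) hk₀) b ?_
      rw [mul_smul, ← hvb, inv_smul_smul]
    have h2 : k₀ ∈ U l := by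
      have h3 := mul_mem hv (hQU l h1)
      rwa [mul_inv_cancel_left] at h3
    exact hk₀l h2.2
  obtain ⟨h, u, hu, huh⟩ := hUn
  set m := α h l with hm
  have hmD : m ∈ D := hD h l hlD
  have hm1 : m ≠ 1 := by
    intro h1
    exact hl1 ((α h).injective (by rw [← hm, h1, map_one]))
  have hme : ∀ k ∈ K, α k m = m ∨ α k m = m⁻¹ := by
    intro k hk
    have h1 : α k (α h l) = α h (α (h⁻¹ * k * h) l) := by
      rw [← mulα, ← mulα]
      congr 2
      group
    have h2 : h⁻¹ * k * h ∈ K := by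
      have := A.nK.conj_mem _ hk h⁻¹
      rwa [inv_inv] at this
    rw [hm, h1]
    rcases hle _ h2 with h3 | h3
    · left; rw [h3]
    · right; rw [h3, map_inv]
  -- `k₁` inverts `l` and fixes `m`
  obtain ⟨k₁, hk₁, hk₁l, hk₁m⟩ : ∃ k ∈ K, α k l = l⁻¹ ∧ α k m = m := by
    have h0 : h * u * h⁻¹ ∈ K := A.nK.conj_mem _ hu.1 h
    refine ⟨h * u * h⁻¹, h0, ?_, ?_⟩
    · rcases hle _ h0 with h3 | h3
      · exact absurd ⟨h0, h3⟩ huh
      · exact h3
    · rw [hm, ← mulα, inv_mul_cancel_right, mulα, hu.2]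
  -- `k₂` inverts `m` and fixes `l`
  obtain ⟨k₂, hk₂, hk₂l, hk₂m⟩ : ∃ k ∈ K, α k l = l ∧ α k m = m⁻¹ := by
    have h0 : h * k₀ * h⁻¹ ∈ K := A.nK.conj_mem _ hk₀ h
    have h1 : α (h * k₀ * h⁻¹) m = m⁻¹ := by
      rw [hm, ← mulα, inv_mul_cancel_right, mulα]
      rcases hle k₀ hk₀ with h2 | h2
      · exact absurd h2 hk₀l
      · rw [h2, map_inv]
    rcases hle _ h0 with h2 | h2
    · exact ⟨_, h0, h2, h1⟩
    · refine ⟨h * k₀ * h⁻¹ * k₁, mul_mem h0 hk₁, ?_, ?_⟩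
      · rw [mulα, hk₁l, map_inv, h2, inv_inv]
      · rw [mulα, hk₁m, h1]
  -- the element `g`
  obtain ⟨g, hgK, hg2, hg⟩ := hfix (ψ * l * m) (by
    have h1 : ψ * l * m * ψ₁⁻¹ = ψ * ψ₁⁻¹ * (l * m) := by
      rw [mul_assoc ψ l m, mul_right_comm]
    rw [h1]
    exact mul_mem hψD (mul_mem hlD hmD))
  have s1 : α g l = l ∨ α g l = m :=
    swap_step α D hodd hD A.nK hlD hmD hl1 hm1 hle hme hψK hk₁ hk₁l hk₁m hg
  have s2 : α g m = m ∨ α g m = l := by
    refine swap_step α D hodd hD A.nK hmD hlD hm1 hl1 hme hle hψK hk₂ hk₂m hk₂l ?_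
    rw [mul_right_comm]
    exact hg
  have hlm : l ≠ m := by
    intro h1
    rw [← h1, hk₁l] at hk₁m
    exact hinv l hlD hl1 hk₁m
  have f1 : α (g * g) l = l ∧ α (g * g) m = m := by
    rw [mulα, mulα]
    rcases s1 with s1 | s1 <;> rcases s2 with s2 | s2
    · exact ⟨by rw [s1, s1], by rw [s2, s2]⟩
    · exact absurd ((α g).injective (s1.trans s2.symm)) hlm
    · exact absurd ((α g).injective (s1.trans s2.symm)) hlm
    · exact ⟨by rw [s1, s2], by rw [s2, s1]⟩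
  -- `g₂ = g²`
  set g₂ := g * g with hg₂
  let U₀ : Subgroup H := U l ⊓ U m
  have hcomm : ∀ x, α g₂ x = x → (∀ k ∈ K, α k x = x ∨ α k x = x⁻¹) → ∀ k ∈ K, ⁅g₂, k⁆ ∈ U x := by
    intro x hx hxe k hk
    have hK1 : g₂ * k * g₂⁻¹ ∈ K := A.nK.conj_mem _ hk g₂
    have h1 : α (g₂ * k * g₂⁻¹) x = α k x := by
      have h2 : α g₂⁻¹ x = x := by rw [map_inv, MulAut.inv_apply, MulEquiv.symm_apply_eq, hx]
      rw [mulα, mulα, h2]
      rcases hxe k hk with h3 | h3
      · rw [h3, hx]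
      · rw [h3, map_inv, hx]
    refine ⟨mul_mem hK1 (inv_mem hk), ?_⟩
    rw [commutatorElement_def, mulα]
    have h2 : α k⁻¹ x = α k x := by
      rw [map_inv, MulAut.inv_apply, MulEquiv.symm_apply_eq, hsq k hk]
    rw [h2]
    rcases hxe k hk with h3 | h3
    · rw [h3, h1, h3]
    · rw [h3, map_inv, h1, h3, inv_inv]
  have hc0 : ∀ k ∈ K, ⁅g₂, k⁆ ∈ U₀ := fun k hk =>
    ⟨hcomm l f1.1 hle k hk, hcomm m f1.2 hme k hk⟩
  -- `Q` has index at most two in `U₀`
  have hU₀K : U₀ ≤ K := fun x hx => hx.1.1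
  have hUlK : U l ≤ K := fun x hx => hx.1
  have hQU₀ : Q ≤ U₀ := le_inf (hQU l) (hQU m)
  have hidx : Q.relIndex U₀ ≤ 2 := by
    have i1 : Q.relIndex U₀ * U₀.relIndex K = 8 := by
      rw [Subgroup.relIndex_mul_relIndex _ _ _ hQU₀ hU₀K, A.rel]
    have i2 : U₀.relIndex (U l) * (U l).relIndex K = U₀.relIndex K :=
      Subgroup.relIndex_mul_relIndex _ _ _ inf_le_left hUlK
    have i3 : (U l).relIndex K ≠ 1 := by
      intro h1
      exact hk₀l ((Subgroup.relIndex_eq_one.1 h1) hk₀).2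
    have i4 : U₀.relIndex (U l) ≠ 1 := by
      intro h1
      have h2 := (Subgroup.relIndex_eq_one.1 h1) ⟨hk₂, hk₂l⟩
      have h3 : α k₂ m = m := h2.2.2
      rw [hk₂m] at h3
      exact hinv m hmD hm1 h3
    have i5 : (U l).relIndex K ≠ 0 := Subgroup.index_ne_zero_of_finite
    have i6 : U₀.relIndex (U l) ≠ 0 := Subgroup.index_ne_zero_of_finite
    have i7 : 4 ≤ U₀.relIndex K := by
      rw [← i2]
      calc 4 = 2 * 2 := rfl
        _ ≤ _ := Nat.mul_le_mul (by omega) (by omega)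
    by_contra hcon
    push Not at hcon
    have : 3 * 4 ≤ Q.relIndex U₀ * U₀.relIndex K := Nat.mul_le_mul (by omega) i7
    omega
  have hpair : ∀ c ∈ U₀, ∀ c' ∈ U₀, c ∉ Q → c' ∉ Q → c⁻¹ * c' ∈ Q := by
    intro c hc c' hc' hcQ hcQ'
    have h0 : Q.relIndex U₀ ≠ 0 := Subgroup.index_ne_zero_of_finite
    have h1 : Q.relIndex U₀ ≠ 1 := by
      intro h1
      exact hcQ ((Subgroup.relIndex_eq_one.1 h1) hc)
    have h2 : (Q.subgroupOf U₀).index = 2 := by
      change Q.relIndex U₀ = 2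
      omega
    have h3 := Subgroup.mul_mem_iff_of_index_two h2 (a := (⟨c, hc⟩ : U₀)⁻¹) (b := ⟨c', hc'⟩)
    have h4 : (⟨c, hc⟩ : U₀)⁻¹ * ⟨c', hc'⟩ ∈ Q.subgroupOf U₀ := by
      rw [h3, inv_mem_iff, Subgroup.mem_subgroupOf, Subgroup.mem_subgroupOf]
      exact ⟨fun h => absurd h hcQ, fun h => absurd h hcQ'⟩
    exact Subgroup.mem_subgroupOf.1 h4
  -- `g₂²` centralises `K / Q`
  have hZ1 : g₂ * g₂ ∈ CenP Q K := by
    rw [mem_cenP]
    intro k hk
    set c := ⁅g₂, k⁆ with hc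
    have hcU := hc0 k hk
    have hcK := hU₀K hcU
    have h1 := hc0 c hcK
    have h2 : g₂ * c * g₂⁻¹ ∈ U₀ := by
      have h3 : g₂ * c * g₂⁻¹ = ⁅g₂, c⁆ * c := by rw [commutatorElement_def]; group
      rw [h3]
      exact mul_mem h1 hcU
    have h3 : c⁻¹ * (g₂ * c * g₂⁻¹) ∈ Q := by
      by_cases hcQ : c ∈ Q
      · exact mul_mem (inv_mem hcQ) (A.nQ.conj_mem _ hcQ g₂)
      · refine hpair c hcU _ h2 hcQ ?_
        intro h4
        apply hcQ
        have h5 := A.nQ.conj_mem _ h4 g₂⁻¹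
        have h6 : g₂⁻¹ * (g₂ * c * g₂⁻¹) * g₂⁻¹⁻¹ = c := by group
        rwa [h6] at h5
    have h4 : ⁅g₂ * g₂, k⁆ = c * (c⁻¹ * (g₂ * c * g₂⁻¹)) * c⁻¹ * (c * c) := by
      rw [hc]; simp only [commutatorElement_def]; group
    rw [h4]
    exact mul_mem (A.nQ.conj_mem _ h3 c) (A.sq c hcK)
  have hZn : (CenP Q K).Normal := cenP_normal A.nK
  have hZtop : CenP Q K = ⊤ := by
    by_contra hcon
    have h1 := maxK _ hZn hcon hZ1
    -- `g⁴ ∈ K` implies `g ∈ K`
    apply hgK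
    have h2 : g ^ 4 ∈ K := by
      have : g ^ 4 = g₂ * g₂ := by rw [hg₂]; simp only [pow_succ, pow_zero, one_mul, mul_assoc]
      rw [this]
      exact h1
    have h3 : Nat.Coprime (orderOf g) 4 := by
      have : Nat.Coprime (orderOf g) (2 ^ 2) := Nat.Coprime.pow_right 2
        ((Nat.Prime.coprime_iff_not_dvd Nat.prime_two).2 hg2).symm
      exact this
    obtain ⟨n, hn⟩ := exists_pow_eq_self_of_coprime h3.symm
    rw [← hn]
    exact pow_mem h2 n
  -- contradiction with double transitivity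
  obtain ⟨b⟩ := A.nonempty
  obtain ⟨x, hx, hx1⟩ := A.pick b {b} (by rw [Finset.card_singleton]; norm_num)
  obtain ⟨y, hy, hy1⟩ := A.pick b {b, x • b} ((Finset.card_le_two).trans (by norm_num))
  simp only [Finset.mem_insert, Finset.mem_singleton, not_or] at hx1 hy1
  have hxQ : x ∉ Q := fun h => hx1 ((A.memQ x).1 h b)
  have hyQ : y ∉ Q := fun h => hy1.1 ((A.memQ y).1 h b)
  obtain ⟨h', -, k, hk, e⟩ := A.move1 b hx hy hxQ hyQ
  have h1 : h' ∈ CenP Q K := by rw [hZtop]; trivial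
  have h2 := mem_cenP.1 h1 x hx
  rw [commutatorElement_def, e] at h2
  have h3 := (A.memQ _).1 h2 (x • b)
  rw [mul_smul, mul_smul, inv_smul_smul, (A.memQ k).1 hk] at h3
  exact hy1.2 h3

end final

end part6

section part7

open Cfsg.Agent.H37.NX Cfsg.Agent.H672

universe u v

variable {p q : ℕ} {H V : Type u} {B : Type v} [Group H] [Finite H] [AddCommGroup V] [Finite V]
  [DistribMulAction H V] [Finite B] [MulAction H B] {W : B → AddSubgroup V} {K N Q : Subgroup H} {φ : N →* ℂˣ}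

/-- **[I-fg']** a good prime is impossible, `AGL_3(2)`. -/
theorem good_false_agl (I : ImpC (V := V) p q W K N Q φ) {r : ℕ} (hr : GoodPr p r W Q) (hp3 : p = 3)
    (hn : Nat.card B = 8) (hQi : Q.index = 1344) : False := by
  classical
  haveI : Fact p.Prime := ⟨I.hp⟩
  haveI hNn := N_normal I
  obtain ⟨a, P, t, R⟩ := Cfsg.Agent.H37.NX.exists_rdata I hr
  haveI : Fact r.Prime := ⟨R.prime⟩
  have S := Cfsg.Agent.H322.NX.scal_of_rdata I R
  have A := agl_of_impC I hn hQi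
  have hni := Cfsg.Agent.H37.NX.ImpC.noinv I hp3 R
  have hle := cenP_le I A R hQi
  have hge := Q_le_cenP I A R S hni
  have hQN : ∀ k ∈ Q, ∀ x ∈ P, ⁅k, x⁆ ∈ N := fun k hk => mem_cenP.1 (hge hk)
  have hab := P_comm I A R hQN
  have hQP := Q_comm_P I R hQN hab
  have hcN : ∀ n ∈ N, ∀ g : H, g * n = n * g := fun n hn g => N_central I hn g
  -- the abelian normal subgroup
  haveI := R.nP
  let Y : Subgroup H := P ⊔ N
  have hPY : P ≤ Y := le_sup_left
  have hNY : N ≤ Y := le_sup_right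
  have hYmem : ∀ y ∈ Y, ∃ x ∈ P, ∃ n ∈ N, x * n = y := by
    intro y hy
    exact Subgroup.mem_sup_of_normal_right.1 hy
  haveI hYn : Y.Normal := Subgroup.sup_normal P N
  have hYab : ∀ y ∈ Y, ∀ z ∈ Y, y * z = z * y := by
    intro y hy z hz
    obtain ⟨x, hx, n, hn, rfl⟩ := hYmem y hy
    obtain ⟨x', hx', n', hn', rfl⟩ := hYmem z hz
    have c1 : Commute x x' := hab x hx x' hx'
    have c2 : ∀ g, Commute g n := hcN n hn
    have c3 : ∀ g, Commute g n' := hcN n' hn'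
    exact (((c1.mul_right (c3 x))).mul_left ((c2 (x' * n')).symm)).eq
  have hQY : ∀ k ∈ Q, ∀ y ∈ Y, k⁻¹ * y * k = y := by
    intro k hk y hy
    obtain ⟨x, hx, n, hn, rfl⟩ := hYmem y hy
    have c1 : Commute k x := hQP k hk x hx
    have c2 : Commute k n := hcN n hn k
    have c3 := (c1.mul_right c2).eq
    rw [mul_assoc, ← c3, inv_mul_cancel_left]
  letI : CommGroup Y :=
    { (inferInstance : Group Y) with
      mul_comm := fun a b => Subtype.ext (hYab a a.2 b b.2) }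
  let c : H → Y →* Y := fun h => (MulAut.conjNormal (H := Y) h).toMonoidHom
  have hc : ∀ (h : H) (y : Y), ((c h y : Y) : H) = h * y * h⁻¹ := fun h y => rfl
  have hc1 : ∀ g h : H, (c g).comp (c h) = c (g * h) := by
    intro g h
    ext y
    change (g * (h * y * h⁻¹) * g⁻¹ : H) = (g * h) * y * (g * h)⁻¹
    group
  have hc2 : c 1 = MonoidHom.id Y := by
    ext y
    change (1 * y * 1⁻¹ : H) = y
    group
  let α : H →* MulAut (Y →* ℂˣ) :=
    { toFun := fun h =>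
        { toFun := fun ψ => ψ.comp (c h⁻¹)
          invFun := fun ψ => ψ.comp (c h)
          left_inv := fun ψ => by
            change (ψ.comp (c h⁻¹)).comp (c h) = ψ
            rw [MonoidHom.comp_assoc, hc1, inv_mul_cancel, hc2, MonoidHom.comp_id]
          right_inv := fun ψ => by
            change (ψ.comp (c h)).comp (c h⁻¹) = ψ
            rw [MonoidHom.comp_assoc, hc1, mul_inv_cancel, hc2, MonoidHom.comp_id]
          map_mul' := fun ψ ψ' => by
            ext y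
            rfl }
      map_one' := by
        ext ψ y
        change ((ψ (c 1⁻¹ y) : ℂˣ) : ℂ) = ψ y
        rw [inv_one, hc2]
        rfl
      map_mul' := by
        intro g h
        ext ψ y
        change ((ψ (c (g * h)⁻¹ y) : ℂˣ) : ℂ) = ψ (c h⁻¹ (c g⁻¹ y))
        rw [mul_inv_rev, ← hc1]
        rfl }
  have hα : ∀ (h : H) (ψ : Y →* ℂˣ) (y : Y), α h ψ y = ψ (c h⁻¹ y) := fun _ _ _ => rfl
  let NY : Subgroup Y := N.subgroupOf Y
  let D : Subgroup (Y →* ℂˣ) := (MonoidHom.domRestrictHom NY ℂˣ).ker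
  have hD : ∀ δ : Y →* ℂˣ, δ ∈ D ↔ ∀ y : Y, (y : H) ∈ N → δ y = 1 := by
    intro δ
    constructor
    · intro h y hy
      have h1 : MonoidHom.domRestrictHom NY ℂˣ δ = 1 := h
      exact congrArg (fun f => f (⟨y, hy⟩ : NY)) h1
    · intro h
      change MonoidHom.domRestrictHom NY ℂˣ δ = 1
      ext y
      have := h y (Subgroup.mem_subgroupOf.1 y.2)
      change ((δ (y : Y) : ℂˣ) : ℂ) = 1
      rw [this, Units.val_one]
  have hcardD : Nat.card D = N.relIndex Y := CommGroup.card_domRestrictHom_ker ℂ NY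
  obtain ⟨e, he⟩ : ∃ e, Nat.card D = r ^ e := by
    have h1 : Nat.card D ∣ Nat.card P := by
      rw [hcardD, Subgroup.relIndex_sup_right]
      exact Subgroup.relIndex_dvd_card _ _
    obtain ⟨m, hm⟩ := IsPGroup.iff_card.1 R.pg
    rw [hm] at h1
    obtain ⟨n, -, hn⟩ := (Nat.dvd_prime_pow R.prime).1 h1
    exact ⟨n, hn⟩
  haveI : Finite D := Nat.finite_of_card_ne_zero (by rw [he]; exact pow_ne_zero _ R.prime.ne_zero)
  have hodd : ¬ 2 ∣ Nat.card D := by
    rw [he]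
    intro h
    exact R.odd ((Nat.prime_dvd_prime_iff_eq Nat.prime_two R.prime).1 (Nat.prime_two.dvd_of_dvd_pow h)).symm
  have hcn : ∀ (h : H) (y : Y), (y : H) ∈ N → c h y = y := by
    intro h y hy
    apply Subtype.ext
    rw [hc, hcN _ hy, mul_inv_cancel_right]
  -- an extension of `φ`
  obtain ⟨ψ₁, hψ₁⟩ : ∃ ψ₁ : Y →* ℂˣ, ∀ n (hn : n ∈ N), ψ₁ ⟨n, hNY hn⟩ = φ ⟨n, hn⟩ := by
    obtain ⟨ψ₁, h1⟩ := MonoidHom.domRestrict_surjective ℂ NY
      (φ.comp (Subgroup.subgroupOfEquivOfLe hNY).toMonoidHom)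
    refine ⟨ψ₁, fun n hn => ?_⟩
    exact congrArg (fun f => f (⟨⟨n, hNY hn⟩, hn⟩ : NY)) h1
  refine A.final α D hodd ?_ ?_ ψ₁ ?_ ?_ ?_ I.core.maxK
  · intro h δ hδ
    rw [hD] at hδ ⊢
    intro y hy
    rw [hα, hcn _ _ hy]
    exact hδ y hy
  · intro k hk ψ
    ext y
    rw [hα]
    congr 2
    apply Subtype.ext
    rw [hc, inv_inv]
    exact hQY k hk y y.2
  · intro h
    rw [hD]
    intro y hy
    rw [MonoidHom.mul_apply, MonoidHom.inv_apply, hα, hcn _ _ hy, mul_inv_cancel]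
  · by_contra hcon
    push Not at hcon
    have h1 : K ≤ CenP N P := by
      intro k hk
      rw [mem_cenP]
      intro x hx
      have h2 : ⁅k, x⁆ ∈ Y := hPY (mul_mem (R.nP.conj_mem x hx k) (inv_mem hx))
      have h3 : (⟨⁅k, x⁆, h2⟩ : Y) ∈ NY := by
        rw [← CommGroup.forall_monoidHom_apply_eq_one_iff ℂ NY]
        intro ψ hψ
        have h4 : ψ ∈ D := by
          rw [hD]
          exact fun y hy => hψ y hy
        have h5 := hcon k⁻¹ (inv_mem hk) ψ h4
        have h6 : ψ (c k ⟨x, hPY hx⟩) = ψ ⟨x, hPY hx⟩ := by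
          have h7 := congrArg (fun f : Y →* ℂˣ => f ⟨x, hPY hx⟩) h5
          simp only [hα, inv_inv] at h7
          exact h7
        have h7 : (⟨⁅k, x⁆, h2⟩ : Y) = c k ⟨x, hPY hx⟩ * (⟨x, hPY hx⟩ : Y)⁻¹ := rfl
        rw [h7, map_mul, h6, map_inv, mul_inv_cancel]
      exact h3
    have h2 := Subgroup.relIndex_eq_one.2 (h1.trans hle)
    rw [A.rel] at h2
    norm_num at h2
  · intro ψ hψ
    rw [hD] at hψ
    have hψN : ∀ n (hn : n ∈ N), ψ ⟨n, hNY hn⟩ = φ ⟨n, hn⟩ := by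
      intro n hn
      have h1 := hψ ⟨n, hNY hn⟩ hn
      rw [MonoidHom.mul_apply, MonoidHom.inv_apply, mul_inv_eq_one] at h1
      rw [h1]
      exact hψ₁ n hn
    obtain ⟨-, T, -, hT⟩ := Cfsg.Agent.H20.NX.normal_char I.core (0 : V) Y hNY
      (fun y _ => smul_zero y) (fun g _ y hy => hYn.conj_mem y hy g) (isIrr_lf ψ) (by
        intro n hn
        rw [lf_apply, lf_apply, hψN n hn, map_one, Units.val_one, one_mul])
    obtain ⟨g, hgT, hgK⟩ : ∃ g ∈ (T : Subgroup H), g ∉ K := by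
      by_contra hcon
      push Not at hcon
      have h1 : p ∣ Nat.card H := I.core.pS.trans (Subgroup.index_dvd_card K)
      have h2 := T.dvd_card_of_dvd_card h1
      exact I.core.pK (h2.trans (Subgroup.card_dvd_of_le hcon))
    refine ⟨g, hgK, ?_, ?_⟩
    · obtain ⟨k, hk⟩ := T.isPGroup' ⟨g, hgT⟩
      have hk' : g ^ p ^ k = 1 := congrArg Subtype.val hk
      intro h2
      have h3 := (h2.trans (orderOf_dvd_of_pow_eq_one hk'))
      have h4 := Nat.prime_two.dvd_of_dvd_pow h3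
      rw [hp3] at h4
      norm_num at h4
    · ext y
      rw [hα]
      have h1 := hT g⁻¹ (inv_mem hgT) y (by
        have := (c g⁻¹ y).2
        exact this)
      exact h1

end part7

end Cfsg.Agent.H32.NX9
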