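import Mathlib
import Cfsg.Agent.H32.NX9.LayerI
import Cfsg.Agent.H605.NX.HerOf
import Cfsg.Agent.H386.S3513B8
import Cfsg.Agent.S3513

/-!
# S4979, layer (I): final form (helper32)
-/

set_option autoImplicit false

namespace Cfsg.Agent.H32.NX9

universe u

theorem big8Stmt : Cfsg.Agent.H37.NX.Big8Stmt := by
  intro G hG hc
  obtain ⟨V, h1, h2, -⟩ := Cfsg.Agent.H386.S3513B8.big8 G hG hc
  exact ⟨V, h1, h2⟩

theorem s3513Stmt : Cfsg.Agent.H586.GW.S3513Stmt :=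
  fun n H hprim p hp hdiv h => (Cfsg.Agent.S3513.result n H hprim p hp hdiv).1 h

/-- **Layer (I).** -/
theorem layerI {p q : ℕ} (hp : p.Prime) (hq : q.Prime) : Cfsg.Agent.H229.NX.LayerI.{u} p q :=
  layerI_of Cfsg.Agent.H605.NX.herStmt.{u} big8Stmt s3513Stmt hp hq

end Cfsg.Agent.H32.NX9
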